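import Groth.Prelude.Def_DCoh2
import Groth.Agent.Lib.AcyclicSum8.Main
import Groth.Agent.Lib.Adapted8.Acyclic
import Groth.Agent.Lib.EtColim.Sections24
import Groth.Agent.Lib.EtColim.Torsion
import Groth.Agent.Lib.KInj.Resolution
import Mathlib.AlgebraicGeometry.Morphisms.QuasiSeparated

/-!
# Sections over qcqs étale schemes: coproducts, acyclic objects and finite cohomological dimension
-/

set_option autoImplicit false
set_option backward.isDefEq.respectTransparency false
set_option backward.isDefEq.respectTransparency.types false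

universe u

open CategoryTheory CategoryTheory.Limits Opposite AlgebraicGeometry

namespace Groth.Agent.RpushSum24

open EtColim (secFun)

section Sec

variable {X : Scheme.{u}} (W : X.Etale)

instance : (secFun W).Additive := { }

instance : PreservesFiniteLimits (secFun W) := inferInstance

/-- Derived sections are étale cohomology of the restriction. -/
theorem isZero_rightDerived_iff (G : EtCoh.Ab X) (q : ℕ) :
    IsZero (((secFun W).rightDerived q).obj G) ↔
      Subsingleton (EtCoh.H ((𝟭 Scheme).obj W.left) ((EtCoh.pull W.hom).obj G) q) := by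
  haveI : AlgebraicGeometry.Etale W.hom := W.prop
  let e := ((ExtDerived.rightDerivedMapIso q (EtColim.zExtSectIso W)).symm ≪≫
    ExtDerived.rightDerivedCoyonedaNatIso (EtStalk.zExt W.hom) q).app G
  rw [e.isZero_iff, AddCommGrpCat.isZero_iff_subsingleton]
  exact (EtStalk.extCohEquiv W.hom G q).toEquiv.subsingleton_congr

variable (hW : CompactSpace W.left) (hW' : QuasiSeparatedSpace W.left) (ι : Type (u + 1))
include hW hW'

theorem preservesCoproducts_pull_HF (q : ℕ) :
    PreservesColimitsOfShape (Discrete ι) (EtCoh.pull W.hom ⋙ EtCoh.HF ((𝟭 Scheme).obj W.left) q) := by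
  haveI : CompactSpace ↥((𝟭 Scheme).obj W.left) := hW
  haveI : QuasiSeparatedSpace ↥((𝟭 Scheme).obj W.left) := hW'
  haveI : IsFiltered (Finset (Discrete ι)) := inferInstance
  haveI := EtColim.preservesColimitsOfShape_HF ((𝟭 Scheme).obj W.left) q (Finset (Discrete ι))
  haveI : (EtCoh.pull W.hom).IsLeftAdjoint := (EtCoh.pullPushAdj W.hom).isLeftAdjoint
  haveI : PreservesColimitsOfShape (Discrete ι) (EtCoh.HF ((𝟭 Scheme).obj W.left) q) :=
    ⟨fun {K} =>
      haveI := AcyclicSum8.preservesColimit_discrete (EtCoh.HF ((𝟭 Scheme).obj W.left) q) (K.obj ∘ Discrete.mk)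
      preservesColimit_of_iso_diagram _ (Discrete.natIsoFunctor (F := K)).symm⟩
  infer_instance

theorem preservesCoproducts_secFun : PreservesColimitsOfShape (Discrete ι) (secFun W) := by
  haveI : AlgebraicGeometry.Etale W.hom := W.prop
  haveI := preservesCoproducts_pull_HF W hW hW' ι 0
  exact preservesColimitsOfShape_of_natIso
    ((Functor.isoWhiskerLeft (EtCoh.pull W.hom) (EtColim.coyonedaHFIso _)).symm ≪≫
      (EtColim.coyonedaPullIso W.hom).symm ≪≫ EtColim.zExtSectIso W)

theorem isAcyclicObj_sigma (I : ι → EtCoh.Ab X) (hI : ∀ a, RFPlus.IsAcyclicObj (secFun W) (I a)) :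
    RFPlus.IsAcyclicObj (secFun W) (∐ I) := by
  intro q hq
  haveI := preservesCoproducts_pull_HF W hW hW' ι q
  rw [isZero_rightDerived_iff]
  suffices hz : IsZero ((EtCoh.pull W.hom ⋙ EtCoh.HF ((𝟭 Scheme).obj W.left) q).obj (∐ I)) from
    AddCommGrpCat.subsingleton_of_isZero hz
  rw [IsZero.iff_id_eq_zero]
  refine (isColimitOfPreserves (EtCoh.pull W.hom ⋙ EtCoh.HF ((𝟭 Scheme).obj W.left) q)
    (coproductIsCoproduct I)).hom_ext fun a => IsZero.eq_of_src ?_ _ _
  rw [AddCommGrpCat.isZero_iff_subsingleton]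
  exact (isZero_rightDerived_iff W (I a.as) q).1 (hI a.as q hq)

/-- Sections preserve quasi-isomorphisms between complexes with acyclic terms. -/
theorem quasiIso_secFun {K L : CochainComplex (EtCoh.Ab X) ℤ} (f : K ⟶ L) [QuasiIso f]
    (hd : ∃ d : ℕ, ∀ (G : EtCoh.Ab W.left) (q : ℕ), d < q → Subsingleton (EtCoh.H W.left G q))
    (hK : ∀ m, RFPlus.IsAcyclicObj (secFun W) (K.X m)) (hL : ∀ m, RFPlus.IsAcyclicObj (secFun W) (L.X m)) :
    QuasiIso (((secFun W).mapHomologicalComplex (ComplexShape.up ℤ)).map f) := by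
  obtain ⟨d, hd⟩ := hd
  exact Adapted8.quasiIso_map (secFun W) (n := d + 1)
    (fun G => (isZero_rightDerived_iff W G (d + 1)).2 (hd _ _ (by omega))) f hK hL

end Sec

section Push

variable {X S : Scheme.{u}} (f : X ⟶ S) [QuasiCompact f] [QuasiSeparated f]

theorem qcqs_bc (V : S.Etale) (hV : CompactSpace V.left) (hV' : QuasiSeparatedSpace V.left) :
    CompactSpace ((EtCoh.bc f).obj V).left ∧ QuasiSeparatedSpace ((EtCoh.bc f).obj V).left := by
  haveI : CompactSpace ((𝟭 Scheme).obj V.left) := hV
  haveI : QuasiSeparatedSpace ((𝟭 Scheme).obj V.left) := hV'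
  exact ⟨QuasiCompact.compactSpace_of_compactSpace
      (pullback.fst V.hom f : ((EtCoh.bc f).obj V).left ⟶ V.left),
    quasiSeparatedSpace_of_quasiSeparated (pullback.fst V.hom f : ((EtCoh.bc f).obj V).left ⟶ V.left)⟩

/-- Isomorphisms are detected on sections over qcqs étale schemes. -/
theorem isIso_of_secFun {G H : EtCoh.Ab S} (φ : G ⟶ H)
    (h : ∀ V : S.Etale, EtColim.qcqs S V → IsIso ((secFun V).map φ)) : IsIso φ := by
  haveI : IsIso ((EtColim.res S).map φ).hom :=
    @NatIso.isIso_of_isIso_app _ _ _ _ _ _ _ fun V => h _ V.unop.objDown.property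
  haveI : IsIso ((EtColim.res S).map φ) := by
    exact (isIso_iff_of_reflects_iso _ (sheafToPresheaf _ _)).1 ‹_›
  exact isIso_of_reflects_iso φ (EtColim.res S)

theorem preservesCoproducts_push (ι : Type (u + 1)) :
    PreservesColimitsOfShape (Discrete ι) (EtCoh.push f) := by
  refine ⟨fun {K} => preservesColimit_of_preserves_colimit_cocone (colimit.isColimit K) ?_⟩
  let c := (EtCoh.push f).mapCocone (colimit.cocone K)
  suffices IsIso (colimit.desc (K ⋙ EtCoh.push f) c) from
    IsColimit.ofPointIso (i := this) (colimit.isColimit (K ⋙ EtCoh.push f))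
  refine isIso_of_secFun _ fun V hV => ?_
  obtain ⟨h1, h2⟩ := qcqs_bc f V hV.1 hV.2
  haveI := preservesCoproducts_secFun V hV.1 hV.2 ι
  haveI := preservesCoproducts_secFun ((EtCoh.bc f).obj V) h1 h2 ι
  have hA := isColimitOfPreserves (secFun V) (colimit.isColimit (K ⋙ EtCoh.push f))
  have hB : IsColimit ((secFun V).mapCocone c) :=
    isColimitOfPreserves (secFun ((EtCoh.bc f).obj V)) (colimit.isColimit K)
  have e : (secFun V).map (colimit.desc (K ⋙ EtCoh.push f) c) = (hA.coconePointUniqueUpToIso hB).hom :=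
    hA.hom_ext fun a => ((secFun V).map_comp _ _).symm.trans ((congrArg (secFun V).map (colimit.ι_desc c a)).trans
      (IsColimit.comp_coconePointUniqueUpToIso_hom hA hB a).symm)
  rw [e]
  infer_instance

/-- Exactness is detected on sections over affine étale schemes. -/
theorem acyclic_of_secFun (C : CochainComplex (EtCoh.Ab S) ℤ)
    (h : ∀ V : S.Etale, IsAffine V.left → (((secFun V).mapHomologicalComplex (ComplexShape.up ℤ)).obj C).Acyclic) :
    C.Acyclic := by
  intro i
  rw [HomologicalComplex.exactAt_iff, ShortComplex.exact_iff_epi_kernel_lift]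
  haveI : Sheaf.IsLocallySurjective (kernel.lift (C.sc i).g (C.sc i).f (C.sc i).zero) := by
    refine ⟨fun {U} s => ?_⟩
    rw [EtSite.mem_et_iff]
    intro x
    obtain ⟨A, hA, hxA, -⟩ := exists_isAffineOpen_mem_and_subset (X := U.left) (x := x) (U := ⊤) trivial
    haveI : IsAffine (EtSite.sub U A).left := hA
    refine ⟨EtSite.sub U A, EtSite.subHom U A, ⟨x, hxA⟩, ?_, rfl⟩
    let V := EtSite.sub U A
    let s' := (kernel (C.sc i).g).obj.map (EtSite.subHom U A).op s
    have hz : ((secFun V).map (C.sc i).g) ((secFun V).map (kernel.ι (C.sc i).g) s') = 0 := by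
      rw [← ConcreteCategory.comp_apply, ← Functor.map_comp, kernel.condition, Functor.map_zero]
      rfl
    obtain ⟨t, ht⟩ := (ShortComplex.ab_exact_iff _).1 (h V inferInstance i) _ hz
    refine ⟨t, ?_⟩
    have hm : Mono ((secFun V).map (kernel.ι (C.sc i).g)) := inferInstance
    rw [AddCommGrpCat.mono_iff_injective] at hm
    refine hm (Eq.trans ?_ ht)
    change ((secFun V).map (kernel.lift _ _ (C.sc i).zero) ≫ (secFun V).map (kernel.ι (C.sc i).g)) t = _
    rw [← Functor.map_comp, kernel.lift_ι]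
    rfl
  exact (Sheaf.isLocallySurjective_iff_epi' _ _).1 inferInstance

/-- Direct image preserves quasi-isomorphisms between complexes with acyclic terms. -/
theorem quasiIso_push {K L : CochainComplex (EtCoh.Ab X) ℤ} (g : K ⟶ L) [QuasiIso g]
    (hX : ∀ U : X.Etale, CompactSpace ↥(U.left) → QuasiSeparatedSpace ↥(U.left) →
      ∃ d : ℕ, ∀ (F : EtCoh.Ab U.left) (q : ℕ), d < q → Subsingleton (EtCoh.H U.left F q))
    (hK : ∀ U : X.Etale, CompactSpace ↥(U.left) → QuasiSeparatedSpace ↥(U.left) →
      ∀ m, RFPlus.IsAcyclicObj (secFun U) (K.X m))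
    (hL : ∀ U : X.Etale, CompactSpace ↥(U.left) → QuasiSeparatedSpace ↥(U.left) →
      ∀ m, RFPlus.IsAcyclicObj (secFun U) (L.X m)) :
    QuasiIso (((EtCoh.push f).mapHomologicalComplex (ComplexShape.up ℤ)).map g) := by
  rw [RFPlus.quasiIso_iff_acyclic_cone]
  refine acyclic_of_secFun _ fun V _ => ?_
  obtain ⟨h1, h2⟩ := qcqs_bc f V inferInstance inferInstance
  let W := (EtCoh.bc f).obj V
  have hq : QuasiIso (((secFun V).mapHomologicalComplex (ComplexShape.up ℤ)).map
      (((EtCoh.push f).mapHomologicalComplex (ComplexShape.up ℤ)).map g)) :=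
    quasiIso_secFun W h1 h2 g (hX W h1 h2) (hK W h1 h2) (hL W h1 h2)
  intro i
  exact ((RFPlus.quasiIso_iff_acyclic_cone _).1 hq i).of_iso
    (CochainComplex.mappingCone.mapHomologicalComplexIso _ (secFun V)).symm

variable [DCoh.HasRpushEt X f]

attribute [local instance] HasDerivedCategory.standard

theorem preservesCoproducts_Rpush
    (hX : ∀ U : X.Etale, CompactSpace ↥(U.left) → QuasiSeparatedSpace ↥(U.left) →
      ∃ d : ℕ, ∀ (F : EtCoh.Ab U.left) (q : ℕ), d < q → Subsingleton (EtCoh.H U.left F q))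
    (ι : Type (u + 1)) : PreservesColimitsOfShape (Discrete ι) (DCoh.RpushEt X f) := by
  haveI := preservesCoproducts_push f ι
  let F := EtCoh.push f
  let RF := DCoh.RpushEt X f
  let α := (DCoh.pushEtKh X f).totalRightDerivedUnit DerivedCategory.Qh
    (HomotopyCategory.quasiIso (EtCoh.Ab X) (ComplexShape.up ℤ))
  suffices h : ∀ K : ι → DCoh.DEt X, PreservesColimit (Discrete.functor K) RF from
    ⟨fun {K} => haveI := h fun a => K.obj ⟨a⟩
      preservesColimit_of_iso_diagram _ (Discrete.natIsoFunctor (F := K)).symm⟩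
  intro K
  have hres : ∀ a, ∃ (I : CochainComplex (EtCoh.Ab X) ℤ), I.IsKInjective ∧ (∀ n, Injective (I.X n)) ∧
      Nonempty (K a ≅ DerivedCategory.Q.obj I) := fun a => by
    obtain ⟨I, g, hI, hg, -, hinj⟩ := KInjLib.exists_resolution (DerivedCategory.Q.objPreimage (K a))
    haveI := hg
    haveI : IsIso (DerivedCategory.Q.map g) := by
      rw [DerivedCategory.isIso_Q_map_iff_quasiIso]; infer_instance
    exact ⟨I, hI, hinj, ⟨(DerivedCategory.Q.objObjPreimageIso (K a)).symm ≪≫ asIso (DerivedCategory.Q.map g)⟩⟩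
  choose I hI hinj he using hres
  obtain ⟨J, g, hJ, hg, -, hJinj⟩ := KInjLib.exists_resolution (∐ I)
  haveI := hJ; haveI := hg
  haveI hP : IsIso ((AcyclicSum8.β F RF α).app (∐ I)) := by
    rw [AcyclicSum8.isIso_β_iff F RF α g]
    refine quasiIso_push f g hX (fun U h1 h2 m => ?_) fun U _ _ m => ?_
    · intro q hq
      refine ((isAcyclicObj_sigma U h1 h2 ι (fun a => (I a).X m) fun a => ?_) q hq).of_iso
        (((secFun U).rightDerived q).mapIso (PreservesCoproduct.iso
          (HomologicalComplex.eval (EtCoh.Ab X) (ComplexShape.up ℤ) m) I))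
      haveI := hinj a m
      exact RFPlus.isAcyclicObj_injective _ _
    · haveI := hJinj m
      exact RFPlus.isAcyclicObj_injective _ _
  let c := Cofan.mk ((F.mapHomologicalComplex (ComplexShape.up ℤ)).obj (∐ I))
    fun a => (F.mapHomologicalComplex (ComplexShape.up ℤ)).map (Sigma.ι I a)
  have hc : IsColimit c := HomologicalComplex.isColimitOfEval _ _ fun m =>
    (isColimitMapCoconeCofanMkEquiv (HomologicalComplex.eval (EtCoh.Ab S) (ComplexShape.up ℤ) m) _ _).symm
      (isColimitCofanMkObjOfIsColimit F _ _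
        (isColimitCofanMkObjOfIsColimit (HomologicalComplex.eval (EtCoh.Ab X) (ComplexShape.up ℤ) m) _ _
          (coproductIsCoproduct I)))
  obtain ⟨h1⟩ := AcyclicSum8.isColimit_Q c hc
  obtain ⟨h2⟩ := AcyclicSum8.isColimit_Q (Cofan.mk (∐ I) (Sigma.ι I)) (coproductIsCoproduct I)
  let e : ∀ a, DerivedCategory.Q.obj ((F.mapHomologicalComplex (ComplexShape.up ℤ)).obj (I a)) ≅
      RF.obj (DerivedCategory.Q.obj (I a)) := fun a =>
    haveI := hI a
    @asIso _ _ _ _ ((AcyclicSum8.β F RF α).app (I a)) (AcyclicSum8.isIso_β_kinj F RF α (I a))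
  haveI : PreservesColimit (Discrete.functor fun a => DerivedCategory.Q.obj (I a)) RF :=
    preservesColimit_of_preserves_colimit_cocone h2 ((isColimitMapCoconeCofanMkEquiv RF _ _).symm
      (((IsColimit.precomposeHomEquiv (Discrete.natIso fun a => e a.as).symm _).symm h1).ofIsoColimit
        (Cocone.ext (@asIso _ _ _ _ ((AcyclicSum8.β F RF α).app (∐ I)) hP) fun ⟨a⟩ => by
          change ((e a).inv ≫ _) ≫ _ = _
          rw [Category.assoc, Iso.inv_comp_eq]
          exact (AcyclicSum8.β F RF α).naturality (Sigma.ι I a))))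
  exact preservesColimit_of_iso_diagram RF (Discrete.natIso fun a => (he a.as).some.symm :
    (Discrete.functor fun a => DerivedCategory.Q.obj (I a)) ≅ Discrete.functor K)

end Push

end Groth.Agent.RpushSum24
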